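import Groth.Agent.KSix54.Spread.Lift
import Groth.Agent.H9Misc.DRingPerfect

/-! Pseudo-coherent complexes with perfect stalks are perfect. -/

set_option linter.style.haveILetI false

universe u

open CategoryTheory CategoryTheory.Limits AlgebraicGeometry
open Groth.Agent.KFlatLib

attribute [local instance] HasDerivedCategory.standard

namespace Groth.Agent.KSix54.Spread

variable {X : Scheme.{u}}

/-- Stalks of pseudo-coherent complexes are pseudo-coherent. -/
theorem stalk_isPseudoCoherent {m : ℤ} {F : CochainComplex X.Modules ℤ}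
    (hF : LocPC m (DCoh.toD X F)) (x : X) :
    DRing.IsPseudoCoherent (X.presheaf.stalk x) m (DRing.toD ((stalkCx x).obj F)) := by
  obtain ⟨U, j, _, ⟨z, rfl⟩, P, a, b, α, hz, hfree, hα⟩ := exists_free_approx hF x
  let G := DerSch.stalkOver j z
  refine ⟨(G.mapHomologicalComplex _).obj P, a, b,
    (G.mapDerivedCategoryFactors.app P).inv ≫ G.mapDerivedCategory.map α ≫
      (G.mapDerivedCategoryFactors.app ((rCx j).obj F) ≪≫
        DerivedCategory.Q.mapIso (stalkRestrictIso j z F)).hom,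
    fun i hi => G.map_isZero (hz i hi), fun i => ?_, ?_⟩
  · obtain ⟨n, ⟨e⟩⟩ := hfree i
    let e' : G.obj (P.X i) ≅ (DerSch.stalkFunctor X (j.base z)).obj (FlatMod.freeMod X n) :=
      G.mapIso (e ≪≫ (pullFreeIso j n).symm ≪≫
        ((Scheme.Modules.restrictFunctorIsoPullback j).app _).symm) ≪≫ restrictStalkEquiv j _ z
    exact ⟨Module.Finite.equiv (((eBasis (j.base z) n).repr.symm.trans e'.toLinearEquiv.symm)),
      Module.Free.of_equiv (((eBasis (j.base z) n).repr.symm.trans e'.toLinearEquiv.symm))⟩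
  · exact ⟨fun i hi => ((hα.map_exact G).comp_iso _ _).1 i hi, ((hα.map_exact G).comp_iso _ _).2⟩

/-- A pseudo-coherent bounded below complex with perfect stalks is perfect. -/
theorem locSP_of_stalk {F : CochainComplex X.Modules ℤ} (c : ℤ) [(DCoh.toD X F).IsGE c]
    (hF : ∀ m, LocPC m (DCoh.toD X F))
    (h : ∀ x : X, DRing.IsPerfect (X.presheaf.stalk x) (DRing.toD ((stalkCx x).obj F))) :
    LocSP (DCoh.toD X F) := fun x => by
  obtain ⟨E, a, b, hz, hE, ⟨e⟩⟩ := h x
  obtain ⟨W, F', hxW, hperf, ⟨e'⟩⟩ := exists_spread_complex x E a b hz (fun i => (hE i).1)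
    fun i => haveI := (hE i).1; haveI := (hE i).2; Module.free_of_flat_of_isLocalRing
  obtain ⟨U, j, _, ⟨z, hzj⟩, P, hP, ⟨eP⟩⟩ := (isPerfect_iff _).1 hperf ⟨x, hxW⟩
  let k := j ≫ W.ι
  have hk : k.base z = x := congrArg W.ι.base hzj
  subst hk
  let cF := (rhoQ j).app ((DCoh.restrictCx W).obj F') ≪≫ DerivedCategory.Q.mapIso
    ((NatIso.mapHomologicalComplex (Scheme.Modules.restrictFunctorComp j W.ι).symm
      (ComplexShape.up ℤ)).app F')
  obtain ⟨a', b', hab⟩ := hP.1
  let c' := min c a'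
  haveI : (DCoh.toD U ((rCx k).obj F')).IsGE c' :=
    (DerivedCategory.isGE_iff _ c').2 fun i hi =>
      ((ShortComplex.isZero_homology_of_isZero_X₂ (P.sc i) (hab i (Or.inl (by omega))) :
        IsZero (P.homology i)).of_iso ((DerivedCategory.homologyFunctorFactors _ i).app P)).of_iso
        ((DerivedCategory.homologyFunctor _ i).mapIso (eP ≪≫ cF).symm)
  haveI := isGE_rCx k F c
  haveI : (DCoh.toD U ((rCx k).obj F)).IsGE c' :=
    (DerivedCategory.isGE_iff _ c').2 fun i hi =>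
      (DerivedCategory.isGE_iff _ c).1 inferInstance i (by omega)
  obtain ⟨e''⟩ := exists_iso_restrict k z (e' ≪≫ e)
  obtain ⟨U', j', _, ⟨z', hz'⟩, ⟨e₃⟩⟩ := exists_iso_nhd c'
    ((LocSP.of_iso (eP ≪≫ cF) (locSP_of_strictlyPerfect hP)).locPC _)
    ((LocPC.restrict (hF _) k).of_iso ((rhoQ k).app F)) z e''
  subst hz'
  refine ⟨U', j' ≫ k, inferInstance, ⟨z', rfl⟩, (rCx j').obj P, isStrictlyPerfect_restrict j' hP, ⟨?_⟩⟩
  exact ((rhoQ j').app P).symm ≪≫ (rho j').mapIso (eP ≪≫ cF) ≪≫ (rhoQ j').app _ ≪≫ e₃ ≪≫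
    ((rhoQ j').app _).symm ≪≫ (rho j').mapIso ((rhoQ k).app F).symm ≪≫ rhoComp j' k _ rfl _

end Groth.Agent.KSix54.Spread
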