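import Groth.Agent.H9Misc.DRingPerfAmp
import Groth.Agent.H9Misc.DRingTorDim

/-! The lowest term of a complex of bounded tor amplitude. -/

set_option linter.style.haveILetI false

universe u

open CategoryTheory CategoryTheory.Category CategoryTheory.Limits
open CategoryTheory.Pretriangulated

attribute [local instance] HasDerivedCategory.standard

namespace Groth.Agent.KSix54.Spread

open Groth.Agent.H9Misc Groth.Agent.H9Misc.DRingTor

variable {A : Type u} [CommRing A]

/-- The lowest term is flat when the others are and the tor amplitude starts there. -/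
theorem flat_lowest {m B : ℤ} {R : DRing.Cx A} (hlow : ∀ i, i < m → IsZero (R.X i))
    (hzR : ∀ i, B < i → IsZero (R.X i)) (hflatR : ∀ i, m < i → Module.Flat A (R.X i))
    (hR : DRing.HasTorAmplitudeIn A m B (toD'.obj R)) : Module.Flat A (R.X m) := by
  let π : R ⟶ (sg m).obj (R.X m) := HomologicalComplex.mkHomToSingle (𝟙 _)
    fun i (hi : i + 1 = m) => (hlow i (by omega)).eq_of_src _ _
  haveI : ∀ i, Epi (π.f i) := fun i => by
    rcases eq_or_ne i m with rfl | hi
    · rw [show π.f i = (HomologicalComplex.singleObjXSelf _ _ _).inv from (HomologicalComplex.mkHomToSingle_f _ _).trans (Category.id_comp _)]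
      infer_instance
    · exact ⟨fun g h _ => (HomologicalComplex.isZero_single_obj_X _ _ _ _ hi).eq_of_src g h⟩
  haveI : Epi π := HomologicalComplex.epi_of_epi_f π inferInstance
  let S := ShortComplex.mk (kernel.ι π) π (kernel.condition π)
  have hS : S.ShortExact :=
    { exact := ShortComplex.exact_of_f_is_kernel _ (kernelIsKernel π) }
  have hS' := fun i : ℤ => hS.map_of_exact (HomologicalComplex.eval (ModuleCat.{u} A) (ComplexShape.up ℤ) i)
  have hm : IsZero ((kernel π).X m) := by
    haveI : Mono ((kernel.ι π).f m) := (hS' m).mono_f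
    haveI : Mono (π.f m) := by
      rw [show π.f m = (HomologicalComplex.singleObjXSelf _ _ _).inv from (HomologicalComplex.mkHomToSingle_f _ _).trans (Category.id_comp _)]
      infer_instance
    refine IsZero.of_mono_eq_zero ((kernel.ι π).f m) ((cancel_mono (π.f m)).1 ?_)
    rw [← HomologicalComplex.comp_f, kernel.condition, zero_comp]
    rfl
  have hne : ∀ i, i ≠ m → IsIso ((kernel.ι π).f i) := fun i hi => by
    haveI : Mono ((kernel.ι π).f i) := (hS' i).mono_f
    haveI : Epi ((kernel.ι π).f i) := (hS' i).exact.epi_f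
      ((HomologicalComplex.isZero_single_obj_X (ComplexShape.up ℤ) m (R.X m) i hi).eq_of_tgt _ _)
    exact isIso_of_mono_of_epi _
  have hzK : ∀ i, i < m + 1 ∨ B + 1 < i → IsZero ((kernel π).X i) := fun i hi => by
    rcases eq_or_ne i m with rfl | hne'
    · exact hm
    · haveI := hne i hne'
      refine IsZero.of_iso ?_ (asIso ((kernel.ι π).f i))
      exact hi.elim (fun h => hlow i (by omega)) fun h => hzR i (by omega)
  have h₁ : DRing.HasTorAmplitudeIn A (m + 1) (B + 1) (toD'.obj (kernel π)) := by
    refine ⟨kernel π, hzK, fun i => ?_, ⟨Iso.refl _⟩⟩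
    by_cases hi : i < m + 1 ∨ B + 1 < i
    · haveI := ModuleCat.subsingleton_of_isZero (hzK i hi)
      infer_instance
    · haveI := hne i (by omega)
      exact (Module.Flat.equiv_iff (asIso ((kernel.ι π).f i)).toLinearEquiv).2 (hflatR i (by omega))
  have h₃ : DRing.HasTorAmplitudeIn A m B (toD'.obj ((sg m).obj (R.X m))) :=
    obj₃_of (DerivedCategory.triangleOfSES hS) (DerivedCategory.triangleOfSES_distinguished hS) h₁ hR
  obtain ⟨X, hzX, hfX, ⟨eX⟩⟩ := h₃
  have h0 : DRing.HasTorAmplitudeIn A 0 (B - m) (Dual.inD A (R.X m)) := by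
    refine ⟨X⟦m⟧, fun i hi => hzX (i + m) (by omega), fun i => hfX (i + m), ⟨?_⟩⟩
    exact (DerivedCategory.Q.commShiftIso m).app X ≪≫ (shiftFunctor (Dual.D A) m).mapIso
        (eX ≪≫ ((DerivedCategory.singleFunctorIsoCompQ (ModuleCat.{u} A) m).app (R.X m)).symm) ≪≫
      ((DerivedCategory.singleFunctors (ModuleCat.{u} A)).shiftIso m 0 m (by omega)).app (R.X m)
  exact flat_of_inD (R.X m) (shrink h0 fun i hi => isZero_homology_inD _ i hi)

end Groth.Agent.KSix54.Spread
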