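import Groth.Agent.KSix54.Spread.RelStalk
import Groth.Agent.KSix54.Spread.Lowest
import Groth.Agent.KSix54.Rel.FlatFPRel
import Groth.Agent.KSix54.Rel.Perfect
import Groth.Agent.KSix54.AmpLocal
import Groth.Agent.FlatFun4.FlatOpen
import Groth.Agent.H9Misc.DRingTorDim

/-! Relative perfect amplitude near a point, from the stalk at the point. -/

set_option linter.style.haveILetI false

universe u

open CategoryTheory CategoryTheory.Limits AlgebraicGeometry
open Groth.Agent.KFlatLib

attribute [local instance] HasDerivedCategory.standard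

namespace Groth.Agent.KSix54.Spread

open Groth.Agent.H9Misc

variable {X Z Y : Scheme.{u}}

/-- On `Z` flat of finite presentation over `Y`: the model and the open where it is good. -/
theorem exists_flat_model (g : Z ⟶ Y) [Flat g] [LocallyOfFinitePresentation g]
    {G : CochainComplex Z.Modules ℤ} {a b : ℤ} [(DCoh.toD Z G).IsGE a]
    (hpc : LocPC (a - 1) (DCoh.toD Z G)) (hb : ∀ i, b < i → IsZero (DCoh.HD (DCoh.toD Z G) i))
    (z : Z) (hz : DerSch.HasTorAmplitudeAt g a b G z) :
    ∃ Z' : Z.Opens, z ∈ Z' ∧ (∀ m, LocPC m (DCoh.toD (Z' : Scheme.{u}) ((rCx Z'.ι).obj G))) ∧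
      ∀ z' : Z, z' ∈ Z' → DerSch.HasTorAmplitudeAt g a b G z' := by
  obtain ⟨W, j, _, ⟨w, rfl⟩, P, a₀, b₀, α, hP, hPf, hα⟩ := exists_free_approx hpc z
  haveI := isGE_rCx j G a
  obtain ⟨e⟩ := exists_truncGE_iso (m := a) (K := DCoh.toD W ((rCx j).obj G)) α
    fun i hi => hα.1 i (by omega)
  let q := j ≫ g
  let R := P.truncGE a
  let B := max (max b₀ b) a
  have hlow : ∀ i, i < a → IsZero (R.X i) := fun i hi =>
    CochainComplex.isZero_of_isStrictlyGE R a i hi
  have hhigh : ∀ i, B < i → IsZero (R.X i) := fun i hi =>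
    (hP i (Or.inr (by omega))).of_iso (P.truncGEXIso a i (by omega))
  have hfree : ∀ i, a < i → ∃ n, Nonempty (R.X i ≅ FlatMod.freeMod W n) := fun i hi => by
    obtain ⟨n, ⟨e'⟩⟩ := hPf i
    exact ⟨n, ⟨P.truncGEXIso a i hi ≪≫ e'⟩⟩
  have hflat : ∀ (w' : W) (i : ℤ), a < i → FlatMod.IsFlatOverAt q (R.X i) w' := fun w' i hi => by
    obtain ⟨n, ⟨e'⟩⟩ := hfree i hi
    exact isFlatOverAt_of_free q e' w'
  have hw : FlatMod.IsFlatOverAt q (R.X a) w := by
    have hR : DerSch.HasTorAmplitudeAt q a B R w :=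
      torAmplitudeAt_congr q e.symm ((torAmplitudeAt_restrict_iff j g a B G w).2
        (DRingTor.mono le_rfl (by omega) hz))
    exact flat_lowest (R := (DerSch.stalkCxOver q w).obj R)
      (fun i hi => (DerSch.stalkOver q w).map_isZero (hlow i hi))
      (fun i hi => (DerSch.stalkOver q w).map_isZero (hhigh i hi)) (hflat w) hR
  have hFP : CohB1.IsFP (R.X a) := isFP_of_free fun v => by
    obtain ⟨n₁, ⟨e₁⟩⟩ := hPf (a - 1)
    obtain ⟨n₂, ⟨e₂⟩⟩ := hPf a
    let S := Scheme.Modules.restrictFunctor (⊤ : W.Opens).ι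
    let f₁ := S.mapIso e₁ ≪≫ (Scheme.Modules.restrictFunctorIsoPullback _).app _ ≪≫ pullFreeIso _ n₁
    let f₂ := S.mapIso e₂ ≪≫ (Scheme.Modules.restrictFunctorIsoPullback _).app _ ≪≫ pullFreeIso _ n₂
    exact ⟨⊤, n₁, n₂, f₁.inv ≫ S.map (P.d (a - 1) a) ≫ f₂.hom, trivial,
      ⟨cokernel.mapIso _ (S.map (P.d (a - 1) a)) f₁.symm f₂.symm (by simp) ≪≫
        (PreservesCokernel.iso S (P.d (a - 1) a)).symm ≪≫
        S.mapIso ((cokernelIsCokernel (P.d (a - 1) a)).coconePointUniqueUpToIso
          (P.opcyclesIsCokernel (a - 1) a (by simp)) ≪≫ (P.truncGEXIsoOpcycles a).symm)⟩⟩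
  let O : W.Opens := ⟨{w' | FlatMod.IsFlatOverAt q (R.X a) w'},
    FlatFun4.isOpen_isFlatOverAt q (QCoh.isQCoh_of_isFP hFP) hFP⟩
  let k := O.ι ≫ j
  let q' := O.ι ≫ q
  let R' := (rCx O.ι).obj R
  have hR'flat : ∀ (o : O) (i : ℤ), Module.Flat (Y.presheaf.stalk (q.base o.1))
      (((DerSch.stalkCxOver q o.1).obj R).X i) := fun o i => by
    rcases lt_trichotomy i a with hi | rfl | hi
    · haveI := ModuleCat.subsingleton_of_isZero ((DerSch.stalkOver q o.1).map_isZero (hlow i hi))
      exact (inferInstance : Module.Flat (Y.presheaf.stalk (q.base o.1))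
        ((DerSch.stalkOver q o.1).obj (R.X i)))
    · exact o.2
    · exact hflat o.1 i hi
  have htor : ∀ o : O, DerSch.HasTorAmplitudeAt g a b G (j.base o.1) := fun o => by
    have h1 : DerSch.HasTorAmplitudeAt q a B R o.1 :=
      ⟨(DerSch.stalkCxOver q o.1).obj R, fun i hi => hi.elim
        (fun h => (DerSch.stalkOver q o.1).map_isZero (hlow i h))
        (fun h => (DerSch.stalkOver q o.1).map_isZero (hhigh i h)), hR'flat o, ⟨Iso.refl _⟩⟩
    have h2 := (torAmplitudeAt_restrict_iff j g a B G o.1).1 (torAmplitudeAt_congr q e h1)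
    refine DRingTor.shrink h2 fun i hi => ?_
    haveI := preservesFiniteLimits_stalkOver g (j.base o.1)
    haveI := preservesFiniteColimits_stalkOver g (j.base o.1)
    exact (((DerSch.stalkOver g (j.base o.1)).map_isZero
      ((hb i hi).of_iso ((DerivedCategory.homologyFunctorFactors Z.Modules i).app G).symm)).of_iso
      ((ShortComplex.homologyFunctorIso (DerSch.stalkOver g (j.base o.1))).app
        ((HomologicalComplex.shortComplexFunctor Z.Modules (ComplexShape.up ℤ) i).obj G))).of_iso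
      ((DerivedCategory.homologyFunctorFactors _ i).app _)
  have hQ : FlatMod.IsFlatOver q' ((R.X a).restrict O.ι) := fun o =>
    (torAmplitudeAt_single_iff q' _ o).1 (torAmplitudeAt_congr q'
      (DerivedCategory.Q.mapIso ((HomologicalComplex.singleMapHomologicalComplex
        (Scheme.Modules.restrictFunctor O.ι) (ComplexShape.up ℤ) 0).app (R.X a)))
      ((torAmplitudeAt_restrict_iff O.ι q 0 0 _ o).2 ((torAmplitudeAt_single_iff q _ o.1).2 o.2)))
  have hlocR : ∀ m, LocPC m (DerivedCategory.Q.obj R') := fun m =>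
    locPC_Q_of_terms m (B + 1 - m).toNat R'
      (fun i hi => (Scheme.Modules.restrictFunctor O.ι).map_isZero (hhigh i (by omega)))
      fun i _ => by
        rcases eq_or_ne i a with rfl | hi
        · refine (locPC_iff_rel_flat q' (m - i) _).1 (isPseudoCoherentRel_of_flat_fp hQ
            ((locPC_iff_rel_flat q' (-1) _).2 ?_) _)
          exact LocPC.of_iso (rhoSingle O.ι (R.X i)) (LocPC.restrict (locPC_of_isFP _ hFP) O.ι)
        · refine LocPC.of_iso ((DerivedCategory.singleFunctorIsoCompQ _ 0).app _).symm ?_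
          refine locPC_of_strictlyPerfect ⟨⟨0, 0, fun k hk =>
            HomologicalComplex.isZero_single_obj_X _ _ _ _ (by omega)⟩, fun k => ?_⟩ _
          rcases eq_or_ne k 0 with rfl | hk
          · refine H23.PullPush.isFinLocFree_of_iso (HomologicalComplex.singleObjXSelf _ _ _).symm ?_
            rcases lt_or_gt_of_ne hi with hi | hi
            · exact isFinLocFree_of_isZero ((Scheme.Modules.restrictFunctor O.ι).map_isZero (hlow i hi))
            · obtain ⟨n, ⟨e'⟩⟩ := hfree i hi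
              exact isFinLocFree_restrict O
                (H23.PullPush.isFinLocFree_of_iso e'.symm (isFinLocFree_freeMod n))
          · exact isFinLocFree_of_isZero (HomologicalComplex.isZero_single_obj_X _ _ _ _ hk)
  refine ⟨k.opensRange, ⟨⟨w, hw⟩, rfl⟩, fun m => ?_, ?_⟩
  · refine LocPC.of_iso ((rhoQ k.opensRange.ι).app G) ?_
    refine LocPC.of_iso (rhoComp (rangeHom k) k _ (rangeHom_fac k) _) (LocPC.restrict ?_ (rangeHom k))
    exact LocPC.of_iso (((rhoQ O.ι).app R).symm ≪≫
      (rho O.ι).mapIso (e ≪≫ ((rhoQ j).app G).symm) ≪≫ rhoComp O.ι j k rfl _) (hlocR m)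
  · rintro z' ⟨o, rfl⟩
    exact htor o

end Groth.Agent.KSix54.Spread
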