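import Groth.Agent.KSix54.Spread.IsoNhd
import Groth.Agent.KSix54.AmpModule
import Groth.Agent.KSix54.Rel.Smooth
import Groth.Agent.KSix54.PCI.Terms
import Groth.Agent.QCoh.Support

/-! Stalks over a base: direct images, free and finitely presented modules. -/

set_option linter.style.haveILetI false

universe u

open CategoryTheory CategoryTheory.Limits AlgebraicGeometry
open Groth.Agent.KFlatLib

attribute [local instance] HasDerivedCategory.standard

namespace Groth.Agent.KSix54.Spread

open Groth.Agent.H9Misc

variable {X Z Y : Scheme.{u}}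

/-- The stalk of a direct image over the base. -/
theorem torAmplitudeAt_push_iff (i : X ⟶ Z) [IsClosedImmersion i] (g : Z ⟶ Y) {a b : ℤ}
    (F : CochainComplex X.Modules ℤ) (x : X) :
    DerSch.HasTorAmplitudeAt g a b
        (((Scheme.Modules.pushforward i).mapHomologicalComplex (ComplexShape.up ℤ)).obj F) (i.base x) ↔
      DerSch.HasTorAmplitudeAt (i ≫ g) a b F x := by
  let Φ := ModuleCat.restrictScalars.{u} (g.stalkMap (i.base x)).hom
  let e : (DerSch.stalkCxOver g (i.base x)).obj
      (((Scheme.Modules.pushforward i).mapHomologicalComplex (ComplexShape.up ℤ)).obj F) ≅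
      (DerSch.stalkCxOver (i ≫ g) x).obj F :=
    HomologicalComplex.Hom.isoOfComponents
      (fun j => Φ.mapIso (pushStalkEquiv i (F.X j) x) ≪≫ ((stalkOverCompIso i g x).app (F.X j)).symm)
      fun j k _ => by
        ext m
        exact congrArg (fun ψ => ψ m) (pushStalkEquiv_naturality i (F.d j k) x).symm
  exact ⟨DRingTor.of_iso (DerivedCategory.Q.mapIso e), DRingTor.of_iso (DerivedCategory.Q.mapIso e).symm⟩

/-- Free modules are flat over a flat base. -/
lemma isFlatOverAt_of_free {W : Scheme.{u}} (q : W ⟶ Y) [Flat q] {M : W.Modules} {n : ℕ}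
    (e : M ≅ FlatMod.freeMod W n) (w : W) : FlatMod.IsFlatOverAt q M w := by
  let R := Y.presheaf.stalk (q.base w)
  let S := W.presheaf.stalk w
  letI : Algebra R S := (q.stalkMap w).hom.toAlgebra
  haveI : Module.Flat R S := (isFlatOverAt_structure_iff q w).1
    ((torAmplitudeAt_single_iff q _ w).1 (((torDimLE_zero_iff_flat q).2 inferInstance) w))
  let N := (DerSch.stalkOver q w).obj M
  haveI : Module.Free S ((DerSch.stalkFunctor W w).obj M : Type u) :=
    Module.Free.of_equiv (((eBasis w n).repr.symm.trans
      ((DerSch.stalkFunctor W w).mapIso e).toLinearEquiv.symm))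
  letI : Module R ((DerSch.stalkFunctor W w).obj M : Type u) :=
    Module.compHom _ (q.stalkMap w).hom
  haveI : IsScalarTower R S ((DerSch.stalkFunctor W w).obj M : Type u) :=
    IsScalarTower.of_algebraMap_smul fun _ _ => rfl
  haveI h : Module.Flat R ((DerSch.stalkFunctor W w).obj M : Type u) := Module.Flat.trans R S _
  exact h

/-- Direct image of complexes along the identity. -/
noncomputable def pushCxId (F : CochainComplex X.Modules ℤ) :
    ((Scheme.Modules.pushforward (𝟙 X)).mapHomologicalComplex (ComplexShape.up ℤ)).obj F ≅ F :=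
  HomologicalComplex.Hom.isoOfComponents (fun i => (Scheme.Modules.pushforwardId X).app (F.X i))
    fun i j _ => ((Scheme.Modules.pushforwardId X).hom.naturality (F.d i j)).symm

/-- Direct image along the identity. -/
noncomputable def pushDId (K : DCoh.D X) : (pushD (𝟙 X)).obj K ≅ K :=
  let e₁ : (pushD (𝟙 X)).obj K ≅
      (pushD (𝟙 X)).obj (DerivedCategory.Q.obj (DerivedCategory.Q.objPreimage K)) :=
    (pushD (𝟙 X)).mapIso (repIso K).symm
  let e₂ : (pushD (𝟙 X)).obj (DerivedCategory.Q.obj (DerivedCategory.Q.objPreimage K)) ≅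
      DerivedCategory.Q.obj (((Scheme.Modules.pushforward (𝟙 X)).mapHomologicalComplex
        (ComplexShape.up ℤ)).obj (DerivedCategory.Q.objPreimage K)) :=
    (pushQ (𝟙 X)).app (DerivedCategory.Q.objPreimage K)
  e₁ ≪≫ e₂ ≪≫ DerivedCategory.Q.mapIso (pushCxId (DerivedCategory.Q.objPreimage K)) ≪≫ repIso K

/-- For a flat morphism of finite presentation, relative and absolute pseudo-coherence agree. -/
theorem locPC_iff_rel_flat {W : Scheme.{u}} (q : W ⟶ Y) [Flat q] [LocallyOfFinitePresentation q]
    (m : ℤ) (K : DCoh.D W) : DerSch.IsPseudoCoherentRel q m K ↔ LocPC m K := by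
  have h := isPseudoCoherentRel_comp_closed_iff (𝟙 W) q (fun t => isNPseudoCoherent_flat q t) (m := m) K
  rw [Category.id_comp] at h
  exact h.trans ⟨LocPC.of_iso (pushDId K), LocPC.of_iso (pushDId K).symm⟩

end Groth.Agent.KSix54.Spread
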