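import Groth.Agent.KSix54.Spread.Stalk
import Groth.Agent.KFlatLib.Perfect.BettiStalk
import Groth.Agent.H9Misc.DRingProjAmp

/-! Maps of stalk complexes out of free complexes spread out to a neighbourhood. -/

set_option linter.style.haveILetI false

universe u

open CategoryTheory CategoryTheory.Limits AlgebraicGeometry
open Groth.Agent.KFlatLib

attribute [local instance] HasDerivedCategory.standard

namespace Groth.Agent.KSix54.Spread

variable {X : Scheme.{u}}

/-- Every term is free of finite rank. -/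
def FreeTerms (P : CochainComplex X.Modules ℤ) : Prop :=
  ∀ i, ∃ n, Nonempty (P.X i ≅ FlatMod.freeMod X n)

lemma stalkAt_resHom {W' W : X.Opens} (h : W' ≤ W) {x : X} (hx' : x ∈ W') {M N : X.Modules}
    (g : M.restrict W.ι ⟶ N.restrict W.ι) :
    stalkAt hx' (resHom h g) = stalkAt (h hx') g := by
  let R := Scheme.Modules.restrictFunctor W.ι
  let c := (Scheme.Modules.restrictAdjunction W.ι).counit.app (N.restrict W.ι)
  have hg : g = R.map (unitW W M ≫ (Scheme.Modules.pushforward W.ι).map g) ≫ c :=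
    (((Scheme.Modules.restrictAdjunction W.ι).homEquiv _ _).symm_apply_apply g).symm.trans
      ((Scheme.Modules.restrictAdjunction W.ι).homEquiv_counit ..)
  have hl : R.map (unitW W N) ≫ c = 𝟙 _ :=
    (Scheme.Modules.restrictAdjunction W.ι).left_triangle_components N
  have key : stalkAt hx' (resHom h c) = stalkAt (h hx') c := by
    haveI := isIso_stalk_unitW (h hx') N
    rw [← cancel_epi ((DerSch.stalkFunctor X x).map (unitW W N))]
    conv_lhs => rw [← stalkAt_map hx' (unitW W N), ← stalkAt_comp, ← resHom_map h, ← resHom_comp]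
    conv_rhs => rw [← stalkAt_map (h hx') (unitW W N), ← stalkAt_comp]
    erw [hl]
    rw [resHom_id, stalkAt_id, stalkAt_id]
  rw [hg]
  erw [resHom_comp]
  rw [resHom_map, stalkAt_comp, stalkAt_comp, stalkAt_map, stalkAt_map, key]

lemma exists_spread_hom {M N : X.Modules} {n : ℕ} (e : M ≅ FlatMod.freeMod X n) (x : X)
    (h : (DerSch.stalkFunctor X x).obj M ⟶ (DerSch.stalkFunctor X x).obj N) :
    ∃ U : X.Opens, x ∈ U ∧ ∀ (W : X.Opens) (hx : x ∈ W), W ≤ U →
      ∃ g : M.restrict W.ι ⟶ N.restrict W.ι, stalkAt hx g = h := by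
  obtain ⟨U, hU, hg⟩ := exists_of_germs N x
    (fun i => ((DerSch.stalkFunctor X x).map e.inv ≫ h) (eGerm x i))
  refine ⟨U, hU, fun W hx hW => ?_⟩
  obtain ⟨g, hg⟩ := hg W hx hW
  refine ⟨(Scheme.Modules.restrictFunctor W.ι).map e.hom ≫ g, ?_⟩
  rw [stalkAt_comp, stalkAt_map, free_stalk_ext hg]
  exact ((DerSch.stalkFunctor X x).mapIso e).hom_inv_id_assoc h

lemma exists_spread_zero {M N : X.Modules} {n : ℕ} (e : M ≅ FlatMod.freeMod X n) {x : X}
    {W : X.Opens} (hx : x ∈ W) (g : M.restrict W.ι ⟶ N.restrict W.ι) (hg : stalkAt hx g = 0) :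
    ∃ U : X.Opens, x ∈ U ∧ ∀ (W' : X.Opens) (h : W' ≤ W), W' ≤ U → resHom h g = 0 := by
  obtain ⟨U, hU, hz⟩ := exists_resHom_eq_zero
    ((Scheme.Modules.restrictFunctor W.ι).map e.inv ≫ g) hx
    (by rw [stalkAt_comp, hg, comp_zero])
  refine ⟨U, hU, fun W' h hle => ?_⟩
  have := hz W' h hle
  rw [resHom_comp, resHom_map] at this
  exact (cancel_epi ((Scheme.Modules.restrictFunctor W'.ι).map e.inv)).1 (this.trans comp_zero.symm)

/-- A map of stalk complexes out of a bounded complex of free modules spreads out. -/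
theorem exists_spread_chain {P F : CochainComplex X.Modules ℤ} {a b : ℤ}
    (hP : DCoh.VanishesOutside P a b) (hPf : FreeTerms P) (x : X)
    (f : (stalkCx x).obj P ⟶ (stalkCx x).obj F) :
    ∃ (W : X.Opens) (hx : x ∈ W) (β : (rCx W.ι).obj P ⟶ (rCx W.ι).obj F),
      ∀ i, stalkAt hx (β.f i) = f.f i := by
  classical
  let s := Finset.Icc a b
  have hout : ∀ i, i ∉ s → IsZero (P.X i) := fun i hi => hP i (by
    rw [Finset.mem_Icc] at hi; omega)
  choose n e using hPf
  choose U hU hg using fun i => exists_spread_hom (N := F.X i) (e i).some x (f.f i)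
  let W := s.inf U
  have hW : x ∈ W := Finset.inf_induction (s := s) (f := U)
    (p := fun U => x ∈ U) trivial (fun _ ha _ hb => ⟨ha, hb⟩) fun i _ => hU i
  have hg' : ∀ i, ∃ g : (P.X i).restrict W.ι ⟶ (F.X i).restrict W.ι, stalkAt hW g = f.f i := fun i => by
    by_cases hi : i ∈ s
    · exact hg i W hW (Finset.inf_le hi)
    · exact ⟨0, ((DerSch.stalkFunctor X x).map_isZero (hout i hi)).eq_of_src _ _⟩
  choose g hg₁ using hg'
  let R := Scheme.Modules.restrictFunctor W.ι
  let δ := fun i => g i ≫ R.map (F.d i (i + 1)) - R.map (P.d i (i + 1)) ≫ g (i + 1)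
  have hδ : ∀ i, stalkAt hW (δ i) = 0 := fun i => by
    rw [stalkAt_sub, stalkAt_comp, stalkAt_comp, stalkAt_map, stalkAt_map, hg₁, hg₁, sub_eq_zero]
    exact f.comm i (i + 1)
  choose V hV hz using fun i => exists_spread_zero (e i).some hW (δ i) (hδ i)
  let W' := W ⊓ s.inf V
  have hW' : x ∈ W' := ⟨hW, Finset.inf_induction (s := s) (f := V)
    (p := fun V => x ∈ V) trivial (fun _ ha _ hb => ⟨ha, hb⟩) fun i _ => hV i⟩
  have l : W' ≤ W := inf_le_left
  let R' := Scheme.Modules.restrictFunctor W'.ι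
  refine ⟨W', hW', ⟨fun i => resHom l (g i), ?_⟩, fun i => ?_⟩
  · rintro i _ (rfl : i + 1 = _)
    change resHom l (g i) ≫ R'.map (F.d i (i + 1)) = R'.map (P.d i (i + 1)) ≫ resHom l (g (i + 1))
    by_cases hi : i ∈ s
    · have := hz i W' l (inf_le_right.trans (Finset.inf_le hi))
      rwa [resHom_sub, resHom_comp, resHom_comp, resHom_map, resHom_map, sub_eq_zero] at this
    · exact (R'.map_isZero (hout i hi)).eq_of_src _ _
  · exact (stalkAt_resHom l hW' (g i)).trans (hg₁ i)

/-- A map in the derived category out of a bounded complex of free stalks is a map of complexes. -/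
theorem exists_stalk_rep {P F : CochainComplex X.Modules ℤ} {a b : ℤ}
    (hP : DCoh.VanishesOutside P a b) (hPf : FreeTerms P) (x : X)
    (ψ : DRing.toD ((stalkCx x).obj P) ⟶ DRing.toD ((stalkCx x).obj F)) :
    ∃ f : (stalkCx x).obj P ⟶ (stalkCx x).obj F, DerivedCategory.Q.map f = ψ := by
  haveI := H9Misc.DRingProjAmp.isKProjective (P := (stalkCx x).obj P) (b := b) (fun i => by
      obtain ⟨n, ⟨e⟩⟩ := hPf i
      haveI : Module.Free (X.presheaf.stalk x)
          ((DerSch.stalkFunctor X x).obj (FlatMod.freeMod X n) : Type u) :=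
        Module.Free.of_basis (eBasis x n)
      exact Module.Projective.of_equiv ((DerSch.stalkFunctor X x).mapIso e).symm.toLinearEquiv)
    (fun i hi => (DerSch.stalkFunctor X x).map_isZero (hP i (Or.inr hi)))
  obtain ⟨g, hg⟩ := (CochainComplex.IsKProjective.Qh_map_bijective
    (K := (stalkCx x).obj P) ((HomotopyCategory.quotient _ _).obj ((stalkCx x).obj F))).2
    ((DerivedCategory.quotientCompQhIso _).hom.app _ ≫ ψ ≫
      (DerivedCategory.quotientCompQhIso _).inv.app _)
  obtain ⟨f, rfl⟩ := (HomotopyCategory.quotient _ (ComplexShape.up ℤ)).map_surjective g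
  refine ⟨f, ?_⟩
  have h := (DerivedCategory.quotientCompQhIso _).hom.naturality f
  dsimp at h hg
  rw [hg, Category.assoc, Category.assoc, Iso.inv_hom_id_app] at h
  rw [← cancel_epi ((DerivedCategory.quotientCompQhIso _).hom.app ((stalkCx x).obj P)), ← h]
  exact congrArg _ (Category.comp_id _)

end Groth.Agent.KSix54.Spread
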