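import Groth.Agent.KSix54.Spread.Key

/-! Pseudo-coherent complexes with isomorphic stalk complexes are isomorphic nearby. -/

set_option linter.style.haveILetI false

universe u

open CategoryTheory CategoryTheory.Limits AlgebraicGeometry
open Groth.Agent.KFlatLib

attribute [local instance] HasDerivedCategory.standard

namespace Groth.Agent.KSix54.Spread

variable {X : Scheme.{u}}

/-- A strictly perfect complex has free terms near every point. -/
lemma exists_freeTerms {P : CochainComplex X.Modules ℤ} (hP : DCoh.IsStrictlyPerfect P) (x : X) :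
    ∃ (V : X.Opens) (a b : ℤ), x ∈ V ∧ DCoh.VanishesOutside ((rCx V.ι).obj P) a b ∧
      FreeTerms ((rCx V.ι).obj P) := by
  classical
  obtain ⟨⟨a, b, hab⟩, hfree⟩ := hP
  choose W r hxW e using fun i => hfree i x
  let s := Finset.Icc a b
  let V := s.inf W
  refine ⟨V, a, b, Finset.inf_induction (s := s) (f := W) (p := fun W => x ∈ W) trivial
    (fun _ ha _ hb => ⟨ha, hb⟩) fun i _ => hxW i,
    fun i hi => (Scheme.Modules.restrictFunctor V.ι).map_isZero (hab i hi), fun i => ?_⟩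
  by_cases hi : i ∈ s
  · exact ⟨r i, ⟨restrictFreeIso (Finset.inf_le hi) (e i).some⟩⟩
  · have hz : IsZero (((rCx V.ι).obj P).X i) := (Scheme.Modules.restrictFunctor V.ι).map_isZero
      (hab i (by rw [Finset.mem_Icc] at hi; omega))
    exact ⟨0, ⟨hz.iso ((IsZero.iff_id_eq_zero _).2 (Sigma.hom_ext _ _ fun k => k.elim0))⟩⟩

/-- The restriction of a truncation-bounded object stays bounded below. -/
lemma isGE_rCx {U : Scheme.{u}} (j : U ⟶ X) [IsOpenImmersion j] (E : CochainComplex X.Modules ℤ)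
    (n : ℤ) [(DCoh.toD X E).IsGE n] : (DCoh.toD U ((rCx j).obj E)).IsGE n :=
  (DerivedCategory.isGE_iff _ n).2 fun i hi =>
    (isZero_HD_rho' j ((Scheme.Modules.restrictFunctor j).map_isZero
      ((DerivedCategory.isGE_iff (DCoh.toD X E) n).1 inferInstance i hi))).of_iso
      ((DerivedCategory.homologyFunctor _ i).mapIso ((rhoQ j).app E).symm)

/-- An approximation near a point by a bounded complex with free terms. -/
lemma exists_free_approx {m : ℤ} {E : CochainComplex X.Modules ℤ} (hE : LocPC m (DCoh.toD X E)) (x : X) :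
    ∃ (U : Scheme.{u}) (j : U ⟶ X) (_ : IsOpenImmersion j), x ∈ Set.range j.base ∧
      ∃ (P : CochainComplex U.Modules ℤ) (a b : ℤ)
        (α : DerivedCategory.Q.obj P ⟶ DerivedCategory.Q.obj ((rCx j).obj E)),
        DCoh.VanishesOutside P a b ∧ FreeTerms P ∧ IsPcMap m α := by
  obtain ⟨U, j, _, ⟨u', rfl⟩, P, α, hP, hα⟩ := hE x
  obtain ⟨V, a, b, hV, hz, hfree⟩ := exists_freeTerms hP u'
  exact ⟨V, V.ι ≫ j, inferInstance, ⟨⟨u', hV⟩, rfl⟩, _, a, b,
    ((rhoQ V.ι).app P).inv ≫ (rho V.ι).map α ≫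
      (rhoComp V.ι j _ rfl _ ≪≫ (rhoQ (V.ι ≫ j)).app E).hom, hz, hfree,
    (hα.map_exact _).comp_iso _ _⟩

/-- Pseudo-coherent bounded below complexes with isomorphic stalks are isomorphic nearby. -/
theorem exists_iso_nhd {E F : CochainComplex X.Modules ℤ} (c : ℤ)
    [(DCoh.toD X E).IsGE c] [(DCoh.toD X F).IsGE c]
    (hE : LocPC (c - 1) (DCoh.toD X E)) (hF : LocPC (c - 1) (DCoh.toD X F)) (x : X)
    (e : DRing.toD ((stalkCx x).obj E) ≅ DRing.toD ((stalkCx x).obj F)) :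
    ∃ (U : Scheme.{u}) (j : U ⟶ X) (_ : IsOpenImmersion j), x ∈ Set.range j.base ∧
      Nonempty (DerivedCategory.Q.obj ((rCx j).obj E) ≅ DerivedCategory.Q.obj ((rCx j).obj F)) := by
  obtain ⟨U, j, _, ⟨z, rfl⟩, P, a, b, α, hz, hfree, hα⟩ := exists_free_approx hE x
  haveI := isGE_rCx j E c
  haveI := isGE_rCx j F c
  obtain ⟨e'⟩ := exists_iso_restrict j z e
  let S := DerSch.stalkFunctor U z
  let ψ := (S.mapDerivedCategoryFactors.app P).inv ≫ S.mapDerivedCategory.map α ≫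
    (S.mapDerivedCategoryFactors.app ((rCx j).obj E) ≪≫ e').hom
  have hψ : IsPcMap (c - 1) ψ := (hα.map_exact S).comp_iso _ _
  obtain ⟨U', j', _, hz', γ, hγ⟩ := exists_pcMap hz hfree c
    ((LocPC.restrict hF j).of_iso ((rhoQ j).app F)) z ψ fun i hi => hψ.1 i (by omega)
  haveI := isGE_rCx j' ((rCx j).obj E) c
  haveI := isGE_rCx j' ((rCx j).obj F) c
  obtain ⟨e₁⟩ := exists_truncGE_iso (m := c) (K := DCoh.toD U' ((rCx j').obj ((rCx j).obj E)))
    (((rhoQ j').app P).inv ≫ (rho j').map α ≫ ((rhoQ j').app ((rCx j).obj E)).hom)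
    fun i hi => ((hα.map_exact _).comp_iso _ _).1 i (by omega)
  obtain ⟨e₂⟩ := exists_truncGE_iso (m := c) (K := DCoh.toD U' ((rCx j').obj ((rCx j).obj F))) γ hγ
  obtain ⟨w, rfl⟩ := hz'
  let c' := fun G : CochainComplex X.Modules ℤ => DerivedCategory.Q.mapIso
    ((NatIso.mapHomologicalComplex (Scheme.Modules.restrictFunctorComp j' j)
      (ComplexShape.up ℤ)).app G)
  exact ⟨U', j' ≫ j, inferInstance, ⟨w, rfl⟩, ⟨c' E ≪≫ e₁.symm ≪≫ e₂ ≪≫ (c' F).symm⟩⟩

/-- The open range of an immersion carries the isomorphism. -/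
lemma exists_opens_iso {U : Scheme.{u}} (j : U ⟶ X) [IsOpenImmersion j] {E F : CochainComplex X.Modules ℤ}
    (e : DerivedCategory.Q.obj ((rCx j).obj E) ≅ DerivedCategory.Q.obj ((rCx j).obj F)) :
    Nonempty (DerivedCategory.Q.obj ((DCoh.restrictCx j.opensRange).obj E) ≅
      DerivedCategory.Q.obj ((DCoh.restrictCx j.opensRange).obj F)) :=
  ⟨((rhoQ j.opensRange.ι).app E).symm ≪≫ (rhoComp (rangeHom j) j _ (rangeHom_fac j) _).symm ≪≫
    (rho (rangeHom j)).mapIso ((rhoQ j).app E ≪≫ e ≪≫ ((rhoQ j).app F).symm) ≪≫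
    rhoComp (rangeHom j) j _ (rangeHom_fac j) _ ≪≫ (rhoQ j.opensRange.ι).app F⟩

end Groth.Agent.KSix54.Spread
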