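import Groth.Agent.KSix54.Spread.Stalk
import Groth.Agent.KSix54.PCI.Comp
import Groth.Agent.KFlatLib.Perfect.Top

/-! The cohomology of a pseudo-coherent object vanishing at a point vanishes nearby. -/

set_option linter.style.haveILetI false

universe u

open CategoryTheory CategoryTheory.Limits AlgebraicGeometry
open Groth.Agent.KFlatLib

attribute [local instance] HasDerivedCategory.standard

namespace Groth.Agent.KSix54.Spread

variable {X : Scheme.{u}}

lemma isZero_stalk_restrict {U : Scheme.{u}} (j : U ⟶ X) [IsOpenImmersion j] {M : X.Modules} (z : U)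
    (h : IsZero ((DerSch.stalkFunctor X (j.base z)).obj M)) :
    IsZero ((DerSch.stalkFunctor U z).obj (M.restrict j)) := by
  haveI := ModuleCat.subsingleton_of_isZero (h.of_iso (restrictStalkEquiv j M z))
  haveI : Subsingleton ((DerSch.stalkFunctor U z).obj (M.restrict j) : Type u) :=
    inferInstanceAs (Subsingleton ((DerSch.stalkOver j z).obj (M.restrict j) : Type u))
  exact ModuleCat.isZero_of_subsingleton _

/-- The top cohomology of a pseudo-coherent object is zero near the points where its stalk is. -/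
lemma exists_nhd_isZero_top {k : ℤ} {C : DCoh.D X} (hC : LocPC k C)
    (hz : ∀ i, k < i → IsZero (DCoh.HD C i)) (x : X)
    (h0 : IsZero ((DerSch.stalkFunctor X x).obj (DCoh.HD C k))) :
    ∃ V : X.Opens, x ∈ V ∧ IsZero ((DCoh.HD C k).restrict V.ι) := by
  obtain ⟨U, j, _, hx, A, B, d, φ, hA, hB, hφ, -⟩ := exists_top_presentation le_rfl hC hz x
  obtain ⟨V, i, _, a, b, hxV, hij, -, ⟨eB⟩⟩ := exists_free_pair j hA hB hx
  let R := Scheme.Modules.restrictFunctor i
  haveI : Epi (R.map (cokernel.π d ≫ φ)) := inferInstance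
  let g : FlatMod.freeMod (V : Scheme.{u}) b ⟶ (DCoh.HD C k).restrict V.ι :=
    eB.inv ≫ R.map (cokernel.π d ≫ φ) ≫ (restrict₂Iso i j V.ι hij _).hom
  haveI : Epi g := epi_comp' inferInstance (epi_comp' inferInstance inferInstance)
  have hz0 := isZero_stalk_restrict V.ι (⟨x, hxV⟩ : (V : Scheme.{u})) h0
  haveI := ModuleCat.subsingleton_of_isZero hz0
  obtain ⟨U', hU', hres⟩ := exists_restrict_eq_zero g ⟨x, hxV⟩ fun _ => Subsingleton.elim _ _
  refine ⟨V.ι ''ᵁ U', ⟨⟨x, hxV⟩, hU', rfl⟩, ?_⟩
  have h1 : IsZero (((DCoh.HD C k).restrict V.ι).restrict U'.ι) :=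
    IsZero.of_epi_eq_zero ((Scheme.Modules.restrictFunctor U'.ι).map g) (hres U' le_rfl)
  let σ := (V.ι ''ᵁ U').ι
  let l : ((V.ι ''ᵁ U' : X.Opens) : Scheme.{u}) ⟶ U' := (V.ι.isoImage U').inv
  refine ((Scheme.Modules.restrictFunctor l).map_isZero h1).of_iso
    ((Scheme.Modules.restrictFunctorCongr ?_).app _ ≪≫
      (Scheme.Modules.restrictFunctorComp l (U'.ι ≫ V.ι)).app _ ≪≫
      (Scheme.Modules.restrictFunctor l).mapIso
        ((Scheme.Modules.restrictFunctorComp U'.ι V.ι).app _))
  simp [l]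

end Groth.Agent.KSix54.Spread
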