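import Mathlib.Algebra.Homology.DerivedCategory.TStructure
import Mathlib.Algebra.Homology.DerivedCategory.HomologySequence

/-! A map which is an isomorphism on cohomology in degrees `≥ n` identifies the truncation. -/

set_option linter.style.haveILetI false

universe w v u

open CategoryTheory CategoryTheory.Category CategoryTheory.Limits
open CategoryTheory.Pretriangulated

namespace Groth.Agent.KSix54.Spread

variable {C : Type u} [Category.{v} C] [Abelian C] [HasDerivedCategory.{w} C]

lemma exists_truncGE_iso {m : ℤ} {K : DerivedCategory C} [K.IsGE m] {E : CochainComplex C ℤ}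
    (α : DerivedCategory.Q.obj E ⟶ K)
    (hi : ∀ i, m ≤ i → IsIso ((DerivedCategory.homologyFunctor C i).map α)) :
    Nonempty (DerivedCategory.Q.obj (E.truncGE m) ≅ K) := by
  have hS := E.shortComplexTruncLE_shortExact (m - 1)
  haveI hge : DerivedCategory.IsGE K m := inferInstance
  haveI : DerivedCategory.TStructure.t.IsGE K m := hge
  haveI : DerivedCategory.TStructure.t.IsLE (DerivedCategory.Q.obj (E.truncLE (m - 1))) (m - 1) :=
    inferInstanceAs ((DerivedCategory.Q.obj (E.truncLE (m - 1))).IsLE (m - 1))
  let eX := asIso (DerivedCategory.Q.map (E.shortComplexTruncLEX₃ToTruncGE (m - 1) m (by omega)))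
  obtain ⟨g₀, hg₀⟩ := Triangle.yoneda_exact₂ (DerivedCategory.triangleOfSES hS)
    (DerivedCategory.triangleOfSES_distinguished hS) α
    (DerivedCategory.TStructure.t.zero (X := DerivedCategory.Q.obj (E.truncLE (m - 1))) (Y := K) _ (m - 1) m (by omega))
  let g : DerivedCategory.Q.obj (E.truncGE m) ⟶ K := eX.inv ≫ g₀
  have hg : α = DerivedCategory.Q.map (E.πTruncGE m) ≫ g := by
    refine hg₀.trans ?_
    show DerivedCategory.Q.map (E.shortComplexTruncLE (m - 1)).g ≫ g₀ = _
    refine Eq.symm ?_
    refine (congrArg (· ≫ g) ((congrArg DerivedCategory.Q.map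
      (CochainComplex.g_shortComplexTruncLEX₃ToTruncGE E (m - 1) m (by omega)).symm).trans
        (DerivedCategory.Q.map_comp _ _))).trans ((assoc _ _ _).trans ?_)
    exact congrArg (DerivedCategory.Q.map (E.shortComplexTruncLE (m - 1)).g ≫ ·) (Iso.hom_inv_id_assoc eX g₀)
  suffices IsIso g from ⟨asIso g⟩
  rw [DerivedCategory.isIso_iff]
  intro i
  rcases lt_or_ge i m with him | him
  · exact ⟨0, (DerivedCategory.isZero_of_isGE (DerivedCategory.Q.obj (E.truncGE m)) m i him).eq_of_src _ _,
      (DerivedCategory.isZero_of_isGE K m i him).eq_of_src _ _⟩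
  · haveI := hi i (by omega)
    haveI := E.quasiIsoAt_πTruncGE m i him
    haveI : IsIso ((DerivedCategory.homologyFunctor C i).map
        (DerivedCategory.Q.map (E.πTruncGE m))) :=
      ((MorphismProperty.isomorphisms C).arrow_mk_iso_iff
        (((Functor.mapArrowFunctor _ _).mapIso (DerivedCategory.homologyFunctorFactors C i)).app
          (Arrow.mk (E.πTruncGE m)))).2 ((quasiIsoAt_iff_isIso_homologyMap (E.πTruncGE m) i).1 inferInstance)
    haveI : IsIso ((DerivedCategory.homologyFunctor C i).map (DerivedCategory.Q.map (E.πTruncGE m)) ≫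
        (DerivedCategory.homologyFunctor C i).map g) := by
      rw [← Functor.map_comp, ← hg]
      infer_instance
    exact IsIso.of_isIso_comp_left ((DerivedCategory.homologyFunctor C i).map
      (DerivedCategory.Q.map (E.πTruncGE m))) _

end Groth.Agent.KSix54.Spread
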