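import Groth.Agent.KSix54.Spread.Hom
import Groth.Agent.KSix54.Spread.TopZero
import Groth.Agent.KSix54.Spread.Trunc

/-! A map of stalks which is an isomorphism in high degrees spreads to one nearby. -/

set_option linter.style.haveILetI false

universe u

open CategoryTheory CategoryTheory.Limits CategoryTheory.Pretriangulated AlgebraicGeometry
open Groth.Agent.KFlatLib

attribute [local instance] HasDerivedCategory.standard

namespace Groth.Agent.KSix54.Spread

variable {X : Scheme.{u}}

lemma locPC_of_strictlyPerfect {P : CochainComplex X.Modules ℤ} (hP : DCoh.IsStrictlyPerfect P)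
    (m : ℤ) : LocPC m (DerivedCategory.Q.obj P) :=
  LocSP.locPC (fun x => ⟨X, 𝟙 X, inferInstance, ⟨x, rfl⟩, _, isStrictlyPerfect_restrict (𝟙 X) hP,
    ⟨((rhoQ (𝟙 X)).app P).symm⟩⟩) m

lemma isZero_HD_rho' {U : Scheme.{u}} (j : U ⟶ X) [IsOpenImmersion j] {K : DCoh.D X} {i : ℤ}
    (h : IsZero ((DCoh.HD K i).restrict j)) : IsZero (DCoh.HD ((rho j).obj K) i) :=
  h.of_iso (hdRhoIso j K i)

lemma isZero_restrict_le {V V' : X.Opens} (h : V' ≤ V) {M : X.Modules}
    (hM : IsZero (M.restrict V.ι)) : IsZero (M.restrict V'.ι) :=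
  ((Scheme.Modules.restrictFunctor (X.homOfLE h)).map_isZero hM).of_iso
    ((Scheme.Modules.restrictFunctorCongr (X.homOfLE_ι h).symm).app M ≪≫
      (Scheme.Modules.restrictFunctorComp (X.homOfLE h) V.ι).app M)

lemma isZero_restrict_image {V : X.Opens} (V₂ : (V : Scheme.{u}).Opens) {M : X.Modules}
    (h : IsZero ((M.restrict V.ι).restrict V₂.ι)) : IsZero (M.restrict (V.ι ''ᵁ V₂).ι) := by
  let l : ((V.ι ''ᵁ V₂ : X.Opens) : Scheme.{u}) ⟶ V₂ := (V.ι.isoImage V₂).inv
  refine ((Scheme.Modules.restrictFunctor l).map_isZero h).of_iso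
    ((Scheme.Modules.restrictFunctorCongr ?_).app M ≪≫
      (Scheme.Modules.restrictFunctorComp l (V₂.ι ≫ V.ι)).app M ≪≫
      (Scheme.Modules.restrictFunctor l).mapIso
        ((Scheme.Modules.restrictFunctorComp V₂.ι V.ι).app M))
  simp [l]

/-- Cohomology of a pseudo-coherent object vanishing at a point in degrees `≥ m` vanishes nearby. -/
lemma exists_nhd_isZero {m : ℤ} {C : DCoh.D X} (hC : LocPC m C) (x : X)
    (h0 : ∀ i, m ≤ i → IsZero ((DerSch.stalkFunctor X x).obj (DCoh.HD C i))) :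
    ∃ V : X.Opens, x ∈ V ∧ ∀ i, m ≤ i → IsZero ((DCoh.HD C i).restrict V.ι) := by
  obtain ⟨V₀, b, hx₀, hb⟩ := exists_bound_nhd hC x
  have key : ∀ k : ℕ, ∃ V : X.Opens, x ∈ V ∧
      ∀ i, max (b - k) (m - 1) < i → IsZero ((DCoh.HD C i).restrict V.ι) := by
    intro k
    induction k with
    | zero => exact ⟨V₀, hx₀, fun i hi => (hb i (by omega)).of_iso (hdRhoIso V₀.ι C i).symm⟩
    | succ k ih =>
      obtain ⟨V, hxV, hV⟩ := ih
      by_cases hk : b - k < m
      · exact ⟨V, hxV, fun i hi => hV i (by omega)⟩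
      obtain ⟨V₂, hx₂, hV₂⟩ := exists_nhd_isZero_top (k := b - k)
        (C := (rho V.ι).obj C) ((LocPC.restrict hC V.ι).mono (by omega))
        (fun i hi => isZero_HD_rho' V.ι (hV i (by omega))) ⟨x, hxV⟩
        ((isZero_stalk_restrict V.ι ⟨x, hxV⟩ (h0 _ (by omega))).of_iso
          ((DerSch.stalkFunctor _ _).mapIso (hdRhoIso V.ι C _)))
      refine ⟨V.ι ''ᵁ V₂, ⟨⟨x, hxV⟩, hx₂, rfl⟩, fun i hi => ?_⟩
      rcases eq_or_ne i (b - k) with rfl | hne
      · exact isZero_restrict_image V₂
          (hV₂.of_iso ((Scheme.Modules.restrictFunctor V₂.ι).mapIso (hdRhoIso V.ι C _).symm))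
      · exact isZero_restrict_le (image_le V V₂) (hV i (by omega))
  obtain ⟨V, hxV, hV⟩ := key (b - (m - 1)).toNat
  exact ⟨V, hxV, fun i hi => hV i (by omega)⟩

variable {P F : CochainComplex X.Modules ℤ} {a b : ℤ}

/-- The key lemma: a stalk map which is an isomorphism on cohomology in degrees `≥ n` spreads out. -/
theorem exists_pcMap (hP : DCoh.VanishesOutside P a b) (hPf : FreeTerms P) (n : ℤ)
    [(DCoh.toD X F).IsGE n] (hF : LocPC (n - 1) (DCoh.toD X F)) (x : X)
    (ψ : DRing.toD ((stalkCx x).obj P) ⟶ DRing.toD ((stalkCx x).obj F))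
    (hψ : ∀ i, n ≤ i → IsIso ((DerivedCategory.homologyFunctor _ i).map ψ)) :
    ∃ (U : Scheme.{u}) (j : U ⟶ X) (_ : IsOpenImmersion j), x ∈ Set.range j.base ∧
      ∃ α : DerivedCategory.Q.obj ((rCx j).obj P) ⟶ DerivedCategory.Q.obj ((rCx j).obj F),
        ∀ i, n ≤ i → IsIso ((DerivedCategory.homologyFunctor _ i).map α) := by
  obtain ⟨f, rfl⟩ := exists_stalk_rep hP hPf x ψ
  obtain ⟨W, hx, β, hβ⟩ := exists_spread_chain hP hPf x f
  let y : (W : Scheme.{u}) := ⟨x, hx⟩
  let S := DerSch.stalkFunctor (W : Scheme.{u}) y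
  have hsq : (DerSch.stalkCxOver W.ι y).map β ≫ (stalkRestrictIso W.ι y F).hom =
      (stalkRestrictIso W.ι y P).hom ≫ f := by
    ext i : 1
    exact (stalkAt_eq y hx (β.f i)).trans (congrArg (_ ≫ ·) (hβ i))
  have hiso : ∀ i, n ≤ i → IsIso (S.map (HomologicalComplex.homologyMap β i)) := fun i hi => by
    refine isIso_stalk_homologyMap W.ι y β i ?_
    haveI : IsIso (HomologicalComplex.homologyMap f i) :=
      (NatIso.isIso_map_iff (DerivedCategory.homologyFunctorFactors _ i) f).1 (hψ i hi)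
    have h2 : HomologicalComplex.homologyMap ((DerSch.stalkCxOver W.ι y).map β) i ≫
        HomologicalComplex.homologyMap (stalkRestrictIso W.ι y F).hom i =
        HomologicalComplex.homologyMap (stalkRestrictIso W.ι y P).hom i ≫
          HomologicalComplex.homologyMap f i := by
      rw [← HomologicalComplex.homologyMap_comp, hsq]
      exact HomologicalComplex.homologyMap_comp _ _ _
    haveI : IsIso (HomologicalComplex.homologyMap ((DerSch.stalkCxOver W.ι y).map β) i ≫
        HomologicalComplex.homologyMap (stalkRestrictIso W.ι y F).hom i) := by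
      rw [h2]
      exact IsIso.comp_isIso' inferInstance ‹_›
    exact IsIso.of_isIso_comp_right _
      (HomologicalComplex.homologyMap (stalkRestrictIso W.ι y F).hom i)
  have hiso' : ∀ i, n ≤ i → IsIso (S.map ((DerivedCategory.homologyFunctor _ i).map
      (DerivedCategory.Q.map β))) := fun i hi =>
    (NatIso.isIso_map_iff (Functor.isoWhiskerRight (DerivedCategory.homologyFunctorFactors _ i) S) β).2
      (hiso i hi)
  let T := DerivedCategory.Q.mapTriangle.obj (CochainComplex.mappingCone.triangle β)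
  have hT : T ∈ distinguishedTriangles :=
    DerivedCategory.mappingCone_triangle_distinguished β
  haveI hge : ((rho W.ι).obj (DCoh.toD X F)).IsGE n :=
    (DerivedCategory.isGE_iff _ n).2 fun i hi => isZero_HD_rho' W.ι
      ((Scheme.Modules.restrictFunctor W.ι).map_isZero
        ((DerivedCategory.isGE_iff (DCoh.toD X F) n).1 inferInstance i hi))
  have hFz : ∀ i, i < n → IsZero ((DerivedCategory.homologyFunctor _ i).obj T.obj₂) := fun i hi =>
    ((DerivedCategory.isGE_iff _ n).1 hge i hi).of_iso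
      ((DerivedCategory.homologyFunctor _ i).mapIso ((rhoQ W.ι).app F).symm)
  have hC : LocPC (n - 1) T.obj₃ := locPC_obj₃ T hT
    (locPC_of_strictlyPerfect (isStrictlyPerfect_restrict W.ι
      ⟨⟨a, b, hP⟩, fun i => by
        obtain ⟨k, ⟨e⟩⟩ := hPf i
        exact H23.PullPush.isFinLocFree_of_iso e.symm (isFinLocFree_freeMod k)⟩) _)
    ((LocPC.restrict hF W.ι).of_iso ((rhoQ W.ι).app F))
  have h0 : ∀ i, n - 1 ≤ i → IsZero (S.obj (DCoh.HD T.obj₃ i)) := fun i hi => by
    have hseq := (DerivedCategory.HomologySequence.exact₃ T hT i (i + 1) rfl).map S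
    refine hseq.isZero_X₂ ?_ ?_
    · rcases lt_or_ge i n with h | h
      · exact (S.map_isZero (hFz i h)).eq_of_src _ _
      · haveI : IsIso (S.map ((DerivedCategory.homologyFunctor _ i).map T.mor₁)) := hiso' i h
        refine (cancel_epi (S.map ((DerivedCategory.homologyFunctor _ i).map T.mor₁))).1 ?_
        change _ ≫ S.map _ = _
        rw [← S.map_comp, ← Functor.map_comp, comp_distTriang_mor_zero₁₂ T hT, Functor.map_zero,
          Functor.map_zero]
        exact comp_zero.symm
    · haveI : IsIso (S.map ((DerivedCategory.homologyFunctor _ (i + 1)).map T.mor₁)) :=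
        hiso' (i + 1) (by omega)
      refine (cancel_mono (S.map ((DerivedCategory.homologyFunctor _ (i + 1)).map T.mor₁))).1 ?_
      change S.map _ ≫ _ = _
      rw [← S.map_comp, DerivedCategory.HomologySequence.δ_comp T hT i (i + 1) rfl, Functor.map_zero]
      exact zero_comp.symm
  obtain ⟨V, hyV, hV⟩ := exists_nhd_isZero hC y h0
  refine ⟨_, V.ι ≫ W.ι, inferInstance, ⟨⟨y, hyV⟩, rfl⟩, ?_⟩
  let c := fun G : CochainComplex X.Modules ℤ =>
    (rhoQ V.ι).app ((rCx W.ι).obj G) ≪≫ DerivedCategory.Q.mapIso ((NatIso.mapHomologicalComplex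
      (Scheme.Modules.restrictFunctorComp V.ι W.ι).symm (ComplexShape.up ℤ)).app G)
  refine ⟨(c P).inv ≫ (rho V.ι).map (DerivedCategory.Q.map β) ≫ (c F).hom, fun i hi => ?_⟩
  have hT' := (rho V.ι).map_distinguished T hT
  have hz : ∀ k, n - 1 ≤ k → IsZero ((DerivedCategory.homologyFunctor _ k).obj
      ((rho V.ι).mapTriangle.obj T).obj₃) := fun k hk => isZero_HD_rho' V.ι (hV k hk)
  haveI : Mono ((DerivedCategory.homologyFunctor _ i).map ((rho V.ι).map (DerivedCategory.Q.map β))) :=
    (DerivedCategory.HomologySequence.mono_homologyMap_mor₁_iff _ hT' (i - 1) i (by omega)).2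
      ((hz (i - 1) (by omega)).eq_of_src _ _)
  haveI : Epi ((DerivedCategory.homologyFunctor _ i).map ((rho V.ι).map (DerivedCategory.Q.map β))) :=
    (DerivedCategory.HomologySequence.epi_homologyMap_mor₁_iff _ hT' i).2
      ((hz i (by omega)).eq_of_tgt _ _)
  haveI := isIso_of_mono_of_epi
    ((DerivedCategory.homologyFunctor _ i).map ((rho V.ι).map (DerivedCategory.Q.map β)))
  rw [Functor.map_comp, Functor.map_comp]
  infer_instance

end Groth.Agent.KSix54.Spread
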