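import Groth.Agent.KSix54.Spread.IsoNhd
import Mathlib.RingTheory.LocalRing.Module

/-! A perfect object of the derived category of a local ring spreads out. -/

set_option linter.style.haveILetI false

universe u

open CategoryTheory CategoryTheory.Limits AlgebraicGeometry
open Groth.Agent.KFlatLib

attribute [local instance] HasDerivedCategory.standard

namespace Groth.Agent.KSix54.Spread

variable {X : Scheme.{u}}

lemma locSP_of_strictlyPerfect {P : CochainComplex X.Modules ℤ} (hP : DCoh.IsStrictlyPerfect P) :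
    LocSP (DerivedCategory.Q.obj P) := fun x => ⟨X, 𝟙 X, inferInstance, ⟨x, rfl⟩, _,
  isStrictlyPerfect_restrict (𝟙 X) hP, ⟨((rhoQ (𝟙 X)).app P).symm⟩⟩

lemma isZero_freeMod_zero (X : Scheme.{u}) : IsZero (FlatMod.freeMod X 0) :=
  (IsZero.iff_id_eq_zero _).2 (Sigma.hom_ext _ _ fun k => k.elim0)

/-- A bounded complex of finite free modules over a local ring spreads out. -/
theorem exists_spread_complex (x : X) (E : CochainComplex (ModuleCat.{u} (X.presheaf.stalk x)) ℤ)
    (a b : ℤ) (hz : ∀ i, i < a ∨ b < i → IsZero (E.X i))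
    (hf : ∀ i, Module.Finite (X.presheaf.stalk x) (E.X i))
    (hfree : ∀ i, Module.Free (X.presheaf.stalk x) (E.X i)) :
    ∃ (W : X.Opens) (F' : CochainComplex X.Modules ℤ), x ∈ W ∧
      DCoh.IsPerfect (DerivedCategory.Q.obj ((DCoh.restrictCx W).obj F')) ∧
      Nonempty (DRing.toD ((stalkCx x).obj F') ≅ DRing.toD E) := by
  classical
  let S := DerSch.stalkFunctor X x
  let n := fun i : ℤ => Module.finrank (X.presheaf.stalk x) (E.X i)
  let T := fun i : ℤ => FlatMod.freeMod X (n i)
  haveI := hf
  haveI := hfree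
  let σ : ∀ i, S.obj (T i) ≅ E.X i := fun i =>
    (((eBasis x (n i)).equiv (Module.finBasis (X.presheaf.stalk x) (E.X i)) (Equiv.refl _))).toModuleIso
  let s := Finset.Icc a b
  have hout : ∀ i, i ∉ s → IsZero (T i) := fun i hi => by
    haveI := ModuleCat.subsingleton_of_isZero (hz i (by rw [Finset.mem_Icc] at hi; omega))
    have h0 : n i = 0 := Module.finrank_zero_of_subsingleton
    simpa [T, h0] using isZero_freeMod_zero X
  let d := fun i => (σ i).hom ≫ E.d i (i + 1) ≫ (σ (i + 1)).inv
  choose U hU hg using fun i => exists_spread_hom (N := T (i + 1)) (Iso.refl (T i)) x (d i)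
  let W := s.inf U
  have hW : x ∈ W := Finset.inf_induction (s := s) (f := U)
    (p := fun U => x ∈ U) trivial (fun _ ha _ hb => ⟨ha, hb⟩) fun i _ => hU i
  have hg' : ∀ i, ∃ g : (T i).restrict W.ι ⟶ (T (i + 1)).restrict W.ι, stalkAt hW g = d i := fun i => by
    by_cases hi : i ∈ s
    · exact hg i W hW (Finset.inf_le hi)
    · exact ⟨0, (S.map_isZero (hout i hi)).eq_of_src _ _⟩
  choose g hg₁ using hg'
  have hgg : ∀ i, stalkAt hW (g i ≫ g (i + 1)) = 0 := fun i => by
    simp only [stalkAt_comp, hg₁, d, Category.assoc, Iso.inv_hom_id_assoc,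
      HomologicalComplex.d_comp_d_assoc, zero_comp, comp_zero]
  choose V hV hzero using fun i => exists_spread_zero (Iso.refl (T i)) hW (g i ≫ g (i + 1)) (hgg i)
  let W' := W ⊓ s.inf V
  have hW' : x ∈ W' := ⟨hW, Finset.inf_induction (s := s) (f := V)
    (p := fun V => x ∈ V) trivial (fun _ ha _ hb => ⟨ha, hb⟩) fun i _ => hV i⟩
  have l : W' ≤ W := inf_le_left
  let R' := Scheme.Modules.restrictFunctor W'.ι
  let P : CochainComplex (W' : Scheme.{u}).Modules ℤ :=
    CochainComplex.of (fun i => (T i).restrict W'.ι) (fun i => resHom l (g i)) fun i => by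
      by_cases hi : i ∈ s
      · rw [← resHom_comp]
        exact hzero i W' l (inf_le_right.trans (Finset.inf_le hi))
      · exact (R'.map_isZero (hout i hi)).eq_of_src _ _
  have hP : DCoh.IsStrictlyPerfect P := by
    refine ⟨⟨a, b, fun i hi => R'.map_isZero (hout i (by rw [Finset.mem_Icc]; omega))⟩, fun i => ?_⟩
    exact isFinLocFree_restrict W' (isFinLocFree_freeMod (n i))
  let F' := ((Scheme.Modules.pushforward W'.ι).mapHomologicalComplex (ComplexShape.up ℤ)).obj P
  let c : (rCx W'.ι).obj F' ≅ P := HomologicalComplex.Hom.isoOfComponents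
    (fun i => (asIso (Scheme.Modules.restrictAdjunction W'.ι).counit).app (P.X i))
    fun i j _ => ((Scheme.Modules.restrictAdjunction W'.ι).counit.naturality (P.d i j)).symm
  refine ⟨W', F', hW', (isPerfect_iff _).2
    (LocSP.of_iso (DerivedCategory.Q.mapIso c).symm (locSP_of_strictlyPerfect hP)), ⟨DerivedCategory.Q.mapIso ?_⟩⟩
  let y : (W' : Scheme.{u}) := ⟨x, hW'⟩
  let e : (DerSch.stalkCxOver W'.ι y).obj P ≅ E :=
    HomologicalComplex.Hom.isoOfComponents
      (fun i => restrictStalkEquiv W'.ι (T i) y ≪≫ σ i) (by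
        rintro i _ (rfl : i + 1 = _)
        change (_ ≫ _) ≫ E.d i (i + 1) = (DerSch.stalkOver W'.ι y).map (P.d i (i + 1)) ≫ _ ≫ _
        rw [show P.d i (i + 1) = resHom l (g i) from
          CochainComplex.of_d (fun i => (T i).restrict W'.ι) (fun i => resHom l (g i)) i]
        have hk : (σ i).hom ≫ E.d i (i + 1) =
            stalkAt hW' (resHom l (g i)) ≫ (σ (i + 1)).hom := by
          rw [stalkAt_resHom l hW', hg₁]
          simp [d]
        have k1 := stalkAt_eq y hW' (resHom l (g i))
        exact (Category.assoc _ _ _).trans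
          ((congrArg ((restrictStalkEquiv W'.ι (T i) y).hom ≫ ·) hk).trans
            (((Category.assoc _ _ _).symm.trans
              (congrArg (· ≫ (σ (i + 1)).hom) k1.symm)).trans (Category.assoc _ _ _))))
  exact (stalkRestrictIso W'.ι y F').symm ≪≫ (DerSch.stalkCxOver W'.ι y).mapIso c ≪≫ e

end Groth.Agent.KSix54.Spread
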