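import Groth.Agent.KSix54.Spread.RelPoint
import Mathlib.RingTheory.Flat.Basic

/-! Relative perfect amplitude near a point. -/

set_option linter.style.haveILetI false

universe u

open CategoryTheory CategoryTheory.Limits AlgebraicGeometry
open Groth.Agent.KFlatLib

attribute [local instance] HasDerivedCategory.standard

namespace Groth.Agent.KSix54.Spread

open Groth.Agent.H9Misc

variable {X Z Y : Scheme.{u}}

/-- Relative perfect amplitude near a point of a closed subscheme of a flat scheme. -/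
theorem exists_perfAmp_closed (i : X ⟶ Z) [IsClosedImmersion i] (g : Z ⟶ Y) [Flat g]
    [LocallyOfFinitePresentation g] {F : CochainComplex X.Modules ℤ} {a b : ℤ} [(DCoh.toD X F).IsGE a]
    (hpc : DerSch.IsPseudoCoherentRel (i ≫ g) (a - 1) (DCoh.toD X F))
    (hb : ∀ k, b < k → IsZero (DCoh.HD (DCoh.toD X F) k)) (x : X)
    (hx : DerSch.HasTorAmplitudeAt (i ≫ g) a b F x) :
    ∃ U : X.Opens, x ∈ U ∧ DerSch.HasPerfAmplitudeRel (U.ι ≫ i ≫ g) a b ((DCoh.restrictCx U).obj F) := by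
  let G := ((Scheme.Modules.pushforward i).mapHomologicalComplex (ComplexShape.up ℤ)).obj F
  have hpc' : LocPC (a - 1) (DCoh.toD Z G) := LocPC.of_iso ((pushQ i).app F)
    ((isPseudoCoherentRel_comp_closed_iff i g (fun t => isNPseudoCoherent_flat g t) _).1 hpc)
  have hzero : ∀ k, (k < a ∨ b < k) → IsZero (DCoh.HD (DCoh.toD Z G) k) := fun k hk => by
    have h : IsZero (DCoh.HD (DCoh.toD X F) k) := by
      rcases hk with hk | hk
      · exact (DerivedCategory.isGE_iff (DCoh.toD X F) a).1 inferInstance k hk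
      · exact hb k hk
    exact (isZero_HD_push i h).of_iso
      ((DerivedCategory.homologyFunctor _ k).mapIso ((pushQ i).app F).symm)
  haveI : (DCoh.toD Z G).IsGE a :=
    (DerivedCategory.isGE_iff _ a).2 fun k hk => hzero k (Or.inl hk)
  obtain ⟨Z', hzZ, hZpc, hZtor⟩ := exists_flat_model g hpc' (fun k hk => hzero k (Or.inr hk)) (i.base x)
    ((torAmplitudeAt_push_iff i g F x).2 hx)
  haveI := restrict_closed i Z'
  refine ⟨i ⁻¹ᵁ Z', hzZ, ?_, fun u => ?_⟩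
  · rw [← Category.assoc, ← morphismRestrict_ι i Z', Category.assoc]
    refine pcRelAll_of_locPC (i ∣_ Z') (Z'.ι ≫ g) fun m => ?_
    exact LocPC.of_iso (((rhoQ Z'.ι).app G).symm ≪≫ (rho Z'.ι).mapIso ((pushQ i).app F).symm ≪≫
      pushRho i Z' (DCoh.toD X F) ≪≫ (pushD (i ∣_ Z')).mapIso ((rhoQ (i ⁻¹ᵁ Z').ι).app F) ≪≫
      (pushQ (i ∣_ Z')).app _) (hZpc m)
  · exact (torAmplitudeAt_restrict_iff (i ⁻¹ᵁ Z').ι (i ≫ g) a b F u).2
      ((torAmplitudeAt_push_iff i g F _).1 (hZtor _ u.2))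

/-- The converse direction of the pointwise criterion. -/
theorem exists_perfAmp {f : X ⟶ Y} [LocallyOfFiniteType f] {F : CochainComplex X.Modules ℤ} {a b : ℤ}
    {x : X} {U₀ : X.Opens} (hxU : x ∈ U₀)
    (hpc : DerSch.IsPseudoCoherentRel (U₀.ι ≫ f) (a - 1) (DCoh.toD (U₀ : Scheme.{u}) ((DCoh.restrictCx U₀).obj F)))
    (hz : ∀ i : ℤ, i < a ∨ b < i → IsZero (DCoh.HD (DCoh.toD (U₀ : Scheme.{u}) ((DCoh.restrictCx U₀).obj F)) i))
    (hx : DerSch.HasTorAmplitudeAt f a b F x) :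
    ∃ U : X.Opens, x ∈ U ∧ DerSch.HasPerfAmplitudeRel (U.ι ≫ f) a b ((DCoh.restrictCx U).obj F) := by
  obtain ⟨V, hV, hyV, -⟩ := exists_isAffineOpen_mem_and_subset (X := Y) (x := f.base x) (U := ⊤) trivial
  obtain ⟨U, hU, hxU', hUle⟩ := exists_isAffineOpen_mem_and_subset (X := X) (x := x) (U := U₀ ⊓ f ⁻¹ᵁ V) ⟨hxU, hyV⟩
  have hU₀ : U ≤ U₀ := fun _ h => (hUle h).1
  have hUV : U ≤ f ⁻¹ᵁ V := fun _ h => (hUle h).2
  obtain ⟨n, φ, hφ⟩ := exists_isPres (f := f) hU hV hUV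
  haveI := isClosedImmersion_imm hU φ hφ.surjective
  let C := CommRingCat.ofHom (MvPolynomial.C : Γ(Y, V) →+* MvPolynomial (Fin n) Γ(Y, V))
  let g := Spec.map C ≫ hV.fromSpec
  haveI : Flat (Spec.map C) := (HasRingHomProperty.Spec_iff (P := @Flat)).2
    (RingHom.flat_algebraMap_iff.2 (inferInstance : Module.Flat Γ(Y, V) (MvPolynomial (Fin n) Γ(Y, V))))
  haveI : LocallyOfFinitePresentation (Spec.map C) :=
    (HasRingHomProperty.Spec_iff (P := @LocallyOfFinitePresentation)).2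
      (RingHom.finitePresentation_algebraMap.2
        (inferInstance : Algebra.FinitePresentation Γ(Y, V) (MvPolynomial (Fin n) Γ(Y, V))))
  have hC : C ≫ φ = f.appLE V U hUV := CommRingCat.hom_ext (RingHom.ext fun r => hφ.2.2 r)
  have hfac : imm U φ ≫ g = U.ι ≫ f := by
    rw [imm, Category.assoc, ← Spec.map_comp_assoc, hC, hV.SpecMap_appLE_fromSpec f hU hUV,
      hU.toSpecΓ_fromSpec_assoc]
  let k := X.homOfLE hU₀
  let eF : DCoh.toD (U : Scheme.{u}) ((rCx k).obj ((DCoh.restrictCx U₀).obj F)) ≅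
      DCoh.toD (U : Scheme.{u}) ((DCoh.restrictCx U).obj F) :=
    ((rhoQ k).app _).symm ≪≫ (rho k).mapIso ((rhoQ U₀.ι).app F).symm ≪≫
      rhoComp k U₀.ι U.ι (X.homOfLE_ι hU₀) _ ≪≫ (rhoQ U.ι).app F
  have hpcU : DerSch.IsPseudoCoherentRel (U.ι ≫ f) (a - 1) (DCoh.toD (U : Scheme.{u}) ((DCoh.restrictCx U).obj F)) := by
    have h := isPseudoCoherentRel_restrict k (U₀.ι ≫ f) hpc
    rw [X.homOfLE_ι_assoc hU₀] at h
    exact isPseudoCoherentRel_of_iso ((rhoQ k).app _ ≪≫ eF) h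
  have hzU : ∀ i : ℤ, (i < a ∨ b < i) → IsZero (DCoh.HD (DCoh.toD (U : Scheme.{u}) ((DCoh.restrictCx U).obj F)) i) :=
    fun i hi => (isZero_HD_rho k (hz i hi)).of_iso
      ((DerivedCategory.homologyFunctor _ i).mapIso ((rhoQ k).app _ ≪≫ eF).symm)
  have hxU'' : DerSch.HasTorAmplitudeAt (U.ι ≫ f) a b ((DCoh.restrictCx U).obj F) ⟨x, hxU'⟩ :=
    (torAmplitudeAt_restrict_iff U.ι f a b F ⟨x, hxU'⟩).2 hx
  haveI : (DCoh.toD (U : Scheme.{u}) ((DCoh.restrictCx U).obj F)).IsGE a :=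
    (DerivedCategory.isGE_iff _ a).2 fun i hi => hzU i (Or.inl hi)
  rw [← hfac] at hpcU
  obtain ⟨V', hxV', hV'⟩ := exists_perfAmp_closed (imm U φ) g hpcU (fun i hi => hzU i (Or.inr hi))
    ⟨x, hxU'⟩ (torAmplitudeAt_congr_hom hfac.symm hxU'')
  obtain ⟨hpc', htor'⟩ := hV'
  refine ⟨U.ι ''ᵁ V', ⟨⟨x, hxU'⟩, hxV', rfl⟩, ?_, fun u => ?_⟩
  · intro m
    let l := (U.ι.isoImage V').inv
    have h := isPseudoCoherentRel_restrict l _ (hpc' m)
    have hl : l ≫ V'.ι ≫ U.ι = (U.ι ''ᵁ V').ι := by simp [l]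
    have hm : l ≫ V'.ι ≫ imm U φ ≫ g = (U.ι ''ᵁ V').ι ≫ f := by
      rw [hfac, ← hl]; simp only [Category.assoc]
    rw [hm] at h
    refine isPseudoCoherentRel_of_iso ?_ h
    exact (rho l).mapIso ((rhoQ V'.ι).app ((DCoh.restrictCx U).obj F)).symm ≪≫
      rhoComp l V'.ι (l ≫ V'.ι) rfl _ ≪≫ (rho (l ≫ V'.ι)).mapIso ((rhoQ U.ι).app F).symm ≪≫
      rhoComp (l ≫ V'.ι) U.ι _ (by rw [Category.assoc]; exact hl) _ ≪≫
      (rhoQ (U.ι ''ᵁ V').ι).app F
  · obtain ⟨v, hv, hvu⟩ := u.2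
    refine (torAmplitudeAt_restrict_iff (U.ι ''ᵁ V').ι f a b F u).2 ?_
    have h1 : DerSch.HasTorAmplitudeAt (U.ι ≫ f) a b ((DCoh.restrictCx U).obj F) v :=
      torAmplitudeAt_congr_hom hfac
        ((torAmplitudeAt_restrict_iff V'.ι (imm U φ ≫ g) a b _ ⟨v, hv⟩).1 (htor' ⟨v, hv⟩))
    have h2 := (torAmplitudeAt_restrict_iff U.ι f a b F v).1 h1
    exact Eq.mp (congrArg (fun z => DerSch.HasTorAmplitudeAt f a b F z) hvu) h2

end Groth.Agent.KSix54.Spread
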