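import Groth.Agent.KSix54.AmpLocal
import Groth.Agent.KFlatLib.Perfect.Spread
import Mathlib.Algebra.Category.ModuleCat.ChangeOfRings

/-! Stalk complexes at points of open subschemes, and stalks of spread-out maps. -/

set_option linter.style.haveILetI false

universe u

open CategoryTheory CategoryTheory.Limits AlgebraicGeometry

attribute [local instance] HasDerivedCategory.standard

namespace Groth.Agent.KSix54.Spread

variable {X U : Scheme.{u}} (j : U ⟶ X) [IsOpenImmersion j] (z : U)

lemma exactStalk (x : X) : PreservesFiniteLimits (DerSch.stalkFunctor X x) ∧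
    PreservesFiniteColimits (DerSch.stalkFunctor X x) :=
  ⟨inferInstance, inferInstance⟩

/-- Modules over the stalk of the ambient scheme as modules over the stalk of the open subscheme. -/
noncomputable abbrev transfer :
    ModuleCat.{u} (X.presheaf.stalk (j.base z)) ⥤ ModuleCat.{u} (U.presheaf.stalk z) :=
  ModuleCat.restrictScalars (inv (j.stalkMap z)).hom

instance additive_transfer : (transfer j z).Additive := inferInstance

/-- `transfer` undoes the restriction of scalars along the stalk map. -/
noncomputable def transferCancel :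
    ModuleCat.restrictScalars.{u} (j.stalkMap z).hom ⋙ transfer j z ≅ 𝟭 _ :=
  (ModuleCat.restrictScalarsComp'.{u} (inv (j.stalkMap z)).hom (j.stalkMap z).hom _ rfl).symm ≪≫
    ModuleCat.restrictScalarsId'.{u} _ (by
      rw [← CommRingCat.hom_comp, IsIso.inv_hom_id]
      rfl)

/-- The stalk complex of a restricted complex over the stalk of the ambient scheme. -/
noncomputable def stalkRestrictIso (F : CochainComplex X.Modules ℤ) :
    (DerSch.stalkCxOver j z).obj ((KFlatLib.rCx j).obj F) ≅ (KFlatLib.stalkCx (j.base z)).obj F :=
  HomologicalComplex.Hom.isoOfComponents (fun i => restrictStalkEquiv j (F.X i) z)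
    fun i k _ => (restrictStalkEquiv_naturality j (F.d i k) z).symm

/-- The stalk complex of a restricted complex. -/
noncomputable def transferIso (F : CochainComplex X.Modules ℤ) :
    ((transfer j z).mapHomologicalComplex (ComplexShape.up ℤ)).obj ((KFlatLib.stalkCx (j.base z)).obj F) ≅
      (KFlatLib.stalkCx z).obj ((KFlatLib.rCx j).obj F) :=
  ((transfer j z).mapHomologicalComplex _).mapIso (stalkRestrictIso j z F).symm ≪≫
    HomologicalComplex.Hom.isoOfComponents
      (fun i => (transferCancel j z).app ((DerSch.stalkFunctor U z).obj (((KFlatLib.rCx j).obj F).X i)))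
      fun i k _ => ((transferCancel j z).hom.naturality
        ((DerSch.stalkFunctor U z).map (((KFlatLib.rCx j).obj F).d i k))).symm

/-- An isomorphism of stalk complexes in the derived category can be read on an open subscheme. -/
lemma exists_iso_restrict {E F : CochainComplex X.Modules ℤ}
    (e : DRing.toD ((KFlatLib.stalkCx (j.base z)).obj E) ≅ DRing.toD ((KFlatLib.stalkCx (j.base z)).obj F)) :
    Nonempty (DRing.toD ((KFlatLib.stalkCx z).obj ((KFlatLib.rCx j).obj E)) ≅
      DRing.toD ((KFlatLib.stalkCx z).obj ((KFlatLib.rCx j).obj F))) :=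
  ⟨(DerivedCategory.Q.mapIso (transferIso j z E)).symm ≪≫
    ((transfer j z).mapDerivedCategoryFactors.app _).symm ≪≫
    (transfer j z).mapDerivedCategory.mapIso e ≪≫
    (transfer j z).mapDerivedCategoryFactors.app _ ≪≫ DerivedCategory.Q.mapIso (transferIso j z F)⟩

/-- The stalk of a map of restrictions. -/
lemma stalkAt_eq {W : X.Opens} (y : (W : Scheme.{u})) (hx : W.ι.base y ∈ W) {M N : X.Modules}
    (φ : M.restrict W.ι ⟶ N.restrict W.ι) :
    (DerSch.stalkOver W.ι y).map φ ≫ (restrictStalkEquiv W.ι N y).hom =
      (restrictStalkEquiv W.ι M y).hom ≫ KFlatLib.stalkAt hx φ := by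
  let R := Scheme.Modules.restrictFunctor W.ι
  let G := DerSch.stalkOver W.ι y
  let c := (Scheme.Modules.restrictAdjunction W.ι).counit.app (N.restrict W.ι)
  haveI := KFlatLib.isIso_stalk_unitW hx N
  have hφ : φ = R.map (KFlatLib.unitW W M ≫ (Scheme.Modules.pushforward W.ι).map φ) ≫ c :=
    (((Scheme.Modules.restrictAdjunction W.ι).homEquiv _ _).symm_apply_apply φ).symm.trans
      ((Scheme.Modules.restrictAdjunction W.ι).homEquiv_counit ..)
  have h1 : G.map (R.map (KFlatLib.unitW W N)) ≫ G.map c = 𝟙 _ := by
    rw [← Functor.map_comp]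
    exact (congrArg G.map ((Scheme.Modules.restrictAdjunction W.ι).left_triangle_components N)).trans
      (G.map_id _)
  have h3 : IsIso (G.map (R.map (KFlatLib.unitW W N))) := by
    have h2 := restrictStalkEquiv_naturality W.ι (KFlatLib.unitW W N) y
    haveI : IsIso (G.map (R.map (KFlatLib.unitW W N)) ≫
        (restrictStalkEquiv W.ι ((Scheme.Modules.pushforward W.ι).obj (N.restrict W.ι)) y).hom) := by
      rw [h2]
      infer_instance
    exact IsIso.of_isIso_comp_right _
      (restrictStalkEquiv W.ι ((Scheme.Modules.pushforward W.ι).obj (N.restrict W.ι)) y).hom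
  have h4 : G.map c ≫ G.map (R.map (KFlatLib.unitW W N)) = 𝟙 _ := by
    rw [← cancel_epi (G.map (R.map (KFlatLib.unitW W N))), reassoc_of% h1]
    exact (Category.comp_id _).symm
  conv_lhs => rw [hφ]
  rw [← cancel_mono ((DerSch.stalkFunctor X (W.ι.base y)).map (KFlatLib.unitW W N))]
  conv_rhs => rw [Category.assoc, KFlatLib.stalkAt_spec,
    ← restrictStalkEquiv_naturality W.ι _ y]
  rw [Functor.map_comp, Category.assoc, Category.assoc,
    ← restrictStalkEquiv_naturality W.ι (KFlatLib.unitW W N) y, reassoc_of% h4]

omit [IsOpenImmersion j] in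
/-- Isomorphisms on the cohomology of stalk complexes over the ambient stalk. -/
lemma isIso_stalk_homologyMap {E F : CochainComplex U.Modules ℤ} (β : E ⟶ F) (i : ℤ)
    (h : IsIso (HomologicalComplex.homologyMap ((DerSch.stalkCxOver j z).map β) i)) :
    IsIso ((DerSch.stalkFunctor U z).map (HomologicalComplex.homologyMap β i)) := by
  let G := DerSch.stalkOver j z
  haveI := preservesFiniteLimits_stalkOver j z
  haveI := preservesFiniteColimits_stalkOver j z
  have h' : IsIso (G.map (HomologicalComplex.homologyMap β i)) := by
    refine (NatIso.isIso_map_iff (ShortComplex.homologyFunctorIso G)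
      ((HomologicalComplex.shortComplexFunctor U.Modules (ComplexShape.up ℤ) i).map β)).1 ?_
    exact h
  haveI : IsIso ((ModuleCat.restrictScalars (j.stalkMap z).hom).map
      ((DerSch.stalkFunctor U z).map (HomologicalComplex.homologyMap β i))) := h'
  exact isIso_of_reflects_iso _ (ModuleCat.restrictScalars (j.stalkMap z).hom)

end Groth.Agent.KSix54.Spread
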